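import Mathlib.AlgebraicGeometry.Morphisms.Finite
import Mathlib.AlgebraicGeometry.Morphisms.Integral
import Mathlib.AlgebraicGeometry.AffineTransitionLimit

/-!
# A limit of finite schemes over the base is integral over it
-/

set_option autoImplicit false
set_option linter.style.haveILetI false
set_option backward.isDefEq.respectTransparency.types false

universe u

open CategoryTheory CategoryTheory.Limits AlgebraicGeometry

namespace Groth.Agent.ProEll24

variable {I : Type u} [SmallCategory I] [IsCofiltered I] {S : Scheme.{u}} {D : I ⥤ Scheme.{u}}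
  {c : Cone D} (hc : IsLimit c) (t : ∀ i, D.obj i ⟶ S) (f : c.pt ⟶ S)

include hc in
theorem isIntegralHom_of_isAffine [IsAffine S] [∀ i, IsFinite (t i)] [∀ {i j : I} (a : i ⟶ j), IsAffineHom (D.map a)]
    (hf : ∀ i, c.π.app i ≫ t i = f) : IsIntegralHom f := by
  haveI : ∀ i, IsAffine (D.obj i) := fun i => isAffine_of_isAffineHom (t i)
  obtain ⟨i₀⟩ := IsCofiltered.nonempty (C := I)
  haveI : IsAffineHom (c.π.app i₀) := isAffineHom_π_app _ _ hc i₀
  haveI : IsAffineHom f := hf i₀ ▸ inferInstance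
  rw [HasAffineProperty.iff_of_isAffine (P := @IsIntegralHom)]
  refine ⟨isAffine_of_isAffineHom f, fun y => ?_⟩
  obtain ⟨i, s, rfl⟩ := exists_appTop_π_eq_of_isAffine_of_isLimit D c hc y
  have hfin : (t i).appTop.hom.Finite := (t i).finite_app ⊤ (isAffineOpen_top S)
  obtain ⟨p, hp, hps⟩ := hfin.to_isIntegral s
  refine ⟨p, hp, ?_⟩
  have h : f.appTop = (t i).appTop ≫ (c.π.app i).appTop := by rw [← hf i, Scheme.Hom.comp_appTop]
  show Polynomial.eval₂ f.appTop.hom ((c.π.app i).appTop s) p = 0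
  rw [h, CommRingCat.hom_comp]
  refine (Polynomial.hom_eval₂ p (t i).appTop.hom (c.π.app i).appTop.hom s).symm.trans ?_
  rw [hps, map_zero]

include hc in
/-- A limit of finite schemes over `S` is integral over `S`. -/
theorem isIntegralHom_of_isLimit [∀ i, IsFinite (t i)] (ht : ∀ {i j : I} (a : i ⟶ j), D.map a ≫ t j = t i)
    [∀ {i j : I} (a : i ⟶ j), IsAffineHom (D.map a)]
    (hf : ∀ i, c.π.app i ≫ t i = f) : IsIntegralHom f := by
  obtain ⟨i⟩ := IsCofiltered.nonempty (C := I)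
  rw [IsZariskiLocalAtTarget.iff_of_iSup_eq_top (P := @IsIntegralHom) (fun U : S.affineOpens => U.1)
    (iSup_affineOpens_eq_top S)]
  rintro ⟨U, hU⟩
  haveI : IsAffine (U : Scheme.{u}) := hU
  rw [← Scheme.Hom.resLE_eq_morphismRestrict]
  let V : (D.obj i).Opens := t i ⁻¹ᵁ U
  have hle : ∀ j : Over i, D.map j.hom ⁻¹ᵁ V ≤ t j.left ⁻¹ᵁ U := fun j => by
    rw [← Scheme.Hom.comp_preimage, ht]
  let t' : ∀ j : Over i, (opensDiagram D i V).obj j ⟶ (U : Scheme.{u}) := fun j =>
    (t j.left).resLE U (D.map j.hom ⁻¹ᵁ V) (hle j)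
  haveI ht' : ∀ j : Over i, IsFinite (t' j) := fun j => by
    have h : D.map j.hom ⁻¹ᵁ V = t j.left ⁻¹ᵁ U := by rw [← Scheme.Hom.comp_preimage, ht]
    have key : ∀ (W : (D.obj j.left).Opens) (hW : W = t j.left ⁻¹ᵁ U),
        IsFinite ((t j.left).resLE U W hW.le) := by
      rintro _ rfl
      rw [Scheme.Hom.resLE_eq_morphismRestrict]
      exact IsZariskiLocalAtTarget.restrict (P := @IsFinite) (inferInstance : IsFinite (t j.left)) U
    exact key _ h
  have hp : f ⁻¹ᵁ U = c.π.app i ⁻¹ᵁ V := by rw [← Scheme.Hom.comp_preimage, hf]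
  have key : ∀ (W : c.pt.Opens) (hW : W = c.π.app i ⁻¹ᵁ V) (hW' : W ≤ f ⁻¹ᵁ U),
      IsIntegralHom (f.resLE U W hW') := by
    rintro _ rfl hW'
    exact @isIntegralHom_of_isAffine _ _ _ _ _ _ (isLimitOpensCone D c hc i V) t' (f.resLE U (c.π.app i ⁻¹ᵁ V) hW')
      (inferInstance : IsAffine (U : Scheme.{u})) ht' (fun {_ _} a => inferInstance) (fun j => by
        show (c.π.app j.left).resLE _ _ _ ≫ (t j.left).resLE _ _ _ = _
        rw [Scheme.Hom.resLE_comp_resLE]
        congr 1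
        exact hf j.left)
  exact key _ hp le_rfl

end Groth.Agent.ProEll24
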