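import Groth.Agent.Lib.ProEll24.IntegralLim
import Groth.Agent.Lib.EtLim24.Base
import Groth.Agent.Lib.FieldH25.Transfer
import Groth.Agent.Lib.FieldBr3.CurveTor
import Groth.Agent.Lib.NormSep24.Flasque
import Groth.Agent.Lib.EtColim.Torsion

/-!
# Power-torsion sheaves and cohomology along prime-to-`ℓ` covers
-/

set_option autoImplicit false
set_option linter.style.haveILetI false
set_option backward.isDefEq.respectTransparency.types false

universe u

open CategoryTheory CategoryTheory.Limits AlgebraicGeometry Opposite CategoryTheory.Abelian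
open Groth.Agent.EtStalk

namespace Groth.Agent.ProEll24

variable {X Y Z : Scheme.{u}} (ℓ : ℕ)

/-- Sections are locally killed by a power of `ℓ`. -/
def LTor (G : EtCoh.Ab Y) : Prop :=
  ∀ (U : Y.Etale) (s : EtCoh.sect G U) (y : U.left), ∃ (V : Y.Etale) (φ : V ⟶ U),
    (∃ v : V.left, φ.left.base v = y) ∧ ∃ m : ℕ, (ℓ ^ m) • G.obj.map φ.op s = 0

theorem ltor_pull (f : X ⟶ Y) {G : EtCoh.Ab Y} (hG : LTor ℓ G) : LTor ℓ ((EtCoh.pull f).obj G) := by
  intro U s x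
  obtain ⟨φ, hφ⟩ := exists_fib U x
  obtain ⟨q, hq⟩ := ((ConcreteCategory.isIso_iff_bijective (stalkPull f _ G)).1 inferInstance).2
    (germ _ ((EtCoh.pull f).obj G) φ s)
  obtain ⟨W, ψ, t, rfl⟩ := germ_surjective _ _ q
  obtain ⟨W', g, ⟨w, hw⟩, m, hm⟩ := hG W t (fibPt ψ)
  have h := (mem_agree_iff_germ G ψ (ℓ ^ m • t) 0).1 ⟨W', g, ⟨w, hw⟩, by rw [map_nsmul, map_zero]; exact hm⟩
  rw [map_nsmul, map_zero] at h
  have hN : ℓ ^ m • germ _ ((EtCoh.pull f).obj G) φ s = 0 := by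
    rw [← hq, ← map_nsmul, h, map_zero]
  obtain ⟨V, g, ⟨v, hv⟩, he⟩ := (mem_agree_iff_germ ((EtCoh.pull f).obj G) φ (ℓ ^ m • s) 0).2
    (by rw [map_nsmul, map_zero]; exact hN)
  rw [map_nsmul, map_zero] at he
  exact ⟨V, g, ⟨v, hv.trans hφ⟩, m, he⟩

theorem exists_killed_of_compact {G : EtCoh.Ab Y} (hG : LTor ℓ G) (U : Y.Etale) (hU : CompactSpace U.left)
    (s : EtCoh.sect G U) : ∃ m : ℕ, ℓ ^ m • s = 0 := by
  choose V φ hv m hm using hG U s
  have hopen : ∀ y, IsOpen (Set.range (φ y).left) := fun y => by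
    haveI : AlgebraicGeometry.Etale ((φ y).left ≫ U.hom) := by
      rw [MorphismProperty.Over.w (φ y)]; exact (V y).prop
    haveI : AlgebraicGeometry.Etale U.hom := U.prop
    haveI := Etale.of_comp (φ y).left U.hom
    exact (φ y).left.isOpenMap.isOpen_range
  obtain ⟨t, ht⟩ := hU.isCompact_univ.elim_finite_subcover _ hopen (fun y _ => Set.mem_iUnion.2 ⟨y, hv y⟩)
  refine ⟨t.sup m, NormSep24.sect_ext G (ι := t) (fun y => V y.1) (fun y => φ y.1) (fun x => ?_) fun y => ?_⟩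
  · obtain ⟨y, hy, hx⟩ := Set.mem_iUnion₂.1 (ht (Set.mem_univ x))
    exact ⟨⟨y, hy⟩, hx⟩
  · obtain ⟨k, hk⟩ := pow_dvd_pow ℓ (Finset.le_sup (f := m) y.2)
    rw [map_zero, map_nsmul, hk, mul_comm, mul_smul]
    exact (congrArg (k • ·) (hm y.1)).trans (smul_zero _)

theorem ltor_push (f : X ⟶ Y) [QuasiCompact f] {F : EtCoh.Ab X} (hF : LTor ℓ F) :
    LTor ℓ ((EtCoh.push f).obj F) := by
  intro U s y
  obtain ⟨A, hA, hyA, -⟩ := exists_isAffineOpen_mem_and_subset (X := U.left) (x := y) (U := ⊤) trivial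
  haveI : IsAffine (EtSite.sub U A).left := hA
  haveI : CompactSpace ↥((EtSite.sub U A).left) := inferInstance
  haveI : CompactSpace ↥((𝟭 Scheme).obj (EtSite.sub U A).left) := ‹CompactSpace ↥((EtSite.sub U A).left)›
  haveI h₁ : QuasiCompact (pullback.fst (EtSite.sub U A).hom f) :=
    MorphismProperty.pullback_fst (P := @QuasiCompact) _ _ inferInstance
  have hc : CompactSpace ((EtCoh.bc f).obj (EtSite.sub U A)).left :=
    @QuasiCompact.compactSpace_of_compactSpace _ _ (pullback.fst (EtSite.sub U A).hom f) h₁ inferInstance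
  obtain ⟨m, hm⟩ := exists_killed_of_compact ℓ hF _ hc (((EtCoh.push f).obj F).obj.map (EtSite.subHom U A).op s)
  exact ⟨EtSite.sub U A, EtSite.subHom U A, ⟨⟨y, hyA⟩, rfl⟩, m, hm⟩

theorem nsmul_id_app (G : EtCoh.Ab Y) (d : ℕ) (V : Y.Etale) (s : EtCoh.sect G V) :
    (d • 𝟙 G : G ⟶ G).hom.app (op V) s = d • s := by
  induction d with
  | zero => rw [zero_smul, zero_smul]; rfl
  | succ n ih => rw [succ_nsmul, succ_nsmul]; exact congrArg (· + s) ih

theorem isIso_nsmul_id {G : EtCoh.Ab Y} (hG : LTor ℓ G) {d : ℕ} (hd : ℓ.Coprime d) : IsIso (d • 𝟙 G) := by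
  haveI : Mono (d • 𝟙 G) := by
    refine Sheaf.mono_of_injective _ ?_
    rintro ⟨U⟩ a b hab
    rw [nsmul_id_app, nsmul_id_app] at hab
    choose V φ hv m hm using hG U (a - b)
    refine sub_eq_zero.1 (NormSep24.sect_ext G V φ (fun x => ⟨x, hv x⟩) fun y => ?_)
    rw [map_zero]
    refine AddMonoid.addOrderOf_eq_one_iff.1 (Nat.eq_one_of_dvd_coprimes (Nat.Coprime.pow_left (m y) hd)
      (addOrderOf_dvd_of_nsmul_eq_zero (hm y)) (addOrderOf_dvd_of_nsmul_eq_zero ?_))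
    rw [← map_nsmul, nsmul_sub, hab, sub_self, map_zero]
  haveI : Epi (d • 𝟙 G) := by
    rw [← Sheaf.isLocallySurjective_iff_epi']
    refine ⟨fun {U} s => ?_⟩
    rw [EtSite.mem_et_iff]
    intro x
    obtain ⟨V, φ, ⟨v, hv⟩, m, hm⟩ := hG U s x
    refine ⟨V, φ, v, ?_, hv⟩
    refine ⟨(Nat.gcdB (ℓ ^ m) d) • G.obj.map φ.op s, ?_⟩
    refine (nsmul_id_app G d V _).trans ?_
    have hb := Nat.gcd_eq_gcd_ab (ℓ ^ m) d
    rw [Nat.Coprime.gcd_eq_one (Nat.Coprime.pow_left m hd)] at hb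
    calc d • Nat.gcdB (ℓ ^ m) d • G.obj.map φ.op s
        = Nat.gcdA (ℓ ^ m) d • (ℓ ^ m • G.obj.map φ.op s) + d • Nat.gcdB (ℓ ^ m) d • G.obj.map φ.op s := by
          rw [hm, smul_zero, zero_add]
      _ = ((1 : ℕ) : ℤ) • G.obj.map φ.op s := by
          rw [hb, add_zsmul, ← natCast_zsmul _ (ℓ ^ m), ← natCast_zsmul _ d, ← mul_zsmul, ← mul_zsmul]
          congr 2 <;> ring_nf
      _ = G.obj.map φ.op s := by rw [Nat.cast_one, one_smul]
  exact isIso_of_mono_of_epi _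

theorem eq_zero_of_nsmul {G : EtCoh.Ab Y} (hG : LTor ℓ G) {d : ℕ} (hd : ℓ.Coprime d) (n : ℕ)
    (x : EtCoh.H Y G n) (hx : d • x = 0) : x = 0 := by
  haveI := isIso_nsmul_id ℓ hG hd
  refine FieldH25.eq_zero_of_comp_iso x (asIso (d • 𝟙 G)) ?_
  exact (FieldH25.H_map_nsmul_id G d n x).trans hx

theorem HpullVia_Hpull (f : X ⟶ Y) (t : Y ⟶ Z) (f₀ : X ⟶ Z) (w : f ≫ t = f₀)
    [PreservesFiniteLimits (EtCoh.pull f)] [PreservesFiniteLimits (EtCoh.pull t)]
    [PreservesFiniteLimits (EtCoh.pull f₀)] (G : EtCoh.Ab Z) (n : ℕ) (x : EtCoh.H Z G n) :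
    EtCore.HpullVia f t f₀ w G n (EtCore.Hpull t G n x) = EtCore.Hpull f₀ G n x := by
  subst w
  refine Eq.trans ?_ (FieldH25.Hpull_comp f t G n x)
  show (EtCore.Hpull f ((EtCoh.pull t).obj G) n (EtCore.Hpull t G n x)).comp
    (Ext.mk₀ ((((EtCore.pullComp f t).symm ≪≫ EtCore.pullCongr rfl).app G).hom)) (add_zero n) = _
  congr 2

end Groth.Agent.ProEll24
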